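import Groth.Agent.VBCurve.K553.SubChow2
import Groth.Agent.Cyc.K307.TopMain
import Groth.Agent.AlgSp.K629.NsCurve
import Groth.Agent.IntTh.K711.DeltaGen
import Groth.Agent.Cyc.K309.ZeroDeg
import Groth.Agent.Bivar.K930.Homog
import Groth.Agent.Krr.H463.DualLam
import Groth.Agent.S0559
import Groth.Agent.S1535
import Groth.Agent.S7336
import Groth.Agent.Ega4late.H532.GlueStalk

/-!
# The zeros of a section of a bundle of rank `dim T`

`K553.Sub.degT_totc_eq_ncard` (node SUB-ZERO of S15230): `T` smooth proper integral of dimension `n` over an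
algebraically closed field, `K` locally free of rank `n`, `φ : K ⟶ O_T` whose image at a closed point is everything
or the maximal ideal: the number of closed points where `φ` is not surjective is the degree of
`totc (dl K) (fund T)`.
-/

set_option autoImplicit false
universe u
open CategoryTheory CategoryTheory.Limits AlgebraicGeometry Opposite TopologicalSpace

namespace K420.SubZero

open Groth.Agent Groth.Agent.CycB
open Groth.Agent.Sga67.Sec Groth.Agent.Sga67.LocBasis Groth.Agent.Sga67.LocBasisStalk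
open Groth.Agent.Krr.H463.HomBasis Groth.Agent.Krr.H463.HomTensor
open Groth.Agent.Krr.H487.LocBasisPull Groth.Agent.Krr.H487.KerRank
open Groth.Agent.CohqB.HomSheaf (homSheaf ofHom)
open Groth.Agent.CycB.StalkExact K307.Cid

variable {X : Scheme.{u}}

/-- The section of the dual given by a linear form. -/
noncomputable def dsec {K : X.Modules} (φ : K ⟶ Coh.structureModule X) :
    (K308.Grp.dl K).presheaf.obj (op ⊤) := ofHom φ ⊤

/-- Coordinates of a linear form: the coordinate ideal of `dsec φ` and the image of `φ` on stalks. -/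
theorem exists_coord {n : ℕ} {K : X.Modules} (hK : FlatMod.IsFinLocFreeOfRank n K)
    (φ : K ⟶ Coh.structureModule X) (x : X) : ∃ (U : X.Opens) (_ : x ∈ U) (f : Fin n → Γ(X, U)),
      ∀ (y : X) (hy : y ∈ U),
        cidS (K308.Grp.dl K) (dsec φ) y = Ideal.span (Set.range fun i => gerO y hy (f i)) ∧
        LinearMap.range (stalkLin φ y) = (Ideal.span (Set.range fun i => gerO y hy (f i))) •
          (⊤ : Submodule (X.presheaf.stalk y) ((Coh.structureModule X).presheaf.stalk y)) := by
  obtain ⟨U, hx, e, he⟩ := (isFinLocFreeOfRank_iff K).1 hK x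
  have h1 : IsLocBasis (fun _ : Fin 1 => one X U) := isLocBasis_one' X U
  have h2 : IsLocBasis (hsec (N := Coh.structureModule X) he (one X U)) := isLocBasis_hsec he h1
  have hf : ∀ i, ∃ a : Γ(X, U), appS φ U (e i) = a • one X U := by
    intro i
    obtain ⟨a, ha⟩ := (h1 U le_rfl).2 (appS φ U (e i))
    refine ⟨a 0, ?_⟩
    rw [← ha, comb_apply, Finset.univ_unique, Finset.sum_singleton, res_self]
    rfl
  choose f hf using hf
  refine ⟨U, hx, f, fun y hy => ⟨?_, ?_⟩⟩
  · obtain ⟨β, hβ⟩ := exists_stalkBasis h2 y hy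
    have h3 : res (homSheaf K (Coh.structureModule X)) (le_top : U ≤ ⊤) (ofHom φ ⊤) =
        comb (hsec (N := Coh.structureModule X) he (one X U)) le_rfl f := by
      apply (ev_bijective (N := Coh.structureModule X) he le_rfl).1
      funext j
      have h4 : ev (Coh.structureModule X) e (le_rfl : U ≤ U)
          (res (homSheaf K (Coh.structureModule X)) (le_top : U ≤ ⊤) (ofHom φ ⊤)) j =
          appS φ U (res K le_rfl (e j)) := rfl
      rw [h4, res_self, hf, comb_apply, map_sum, Finset.sum_apply, Finset.sum_eq_single j]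
      · rw [map_smul, ev_res_hsec, res_self]
        simp
      · intro i _ hi
        rw [map_smul, ev_res_hsec]
        simp [Ne.symm hi]
      · simp
    have h5 : (K308.Grp.dl K).presheaf.germ ⊤ y trivial (dsec φ) = ∑ i, gerO y hy (f i) • β i := by
      have h6 := ger_res (homSheaf K (Coh.structureModule X)) (le_top : U ≤ ⊤) y hy (ofHom φ ⊤)
      rw [h3, ger_comb] at h6
      simp only [hβ]
      exact h6.symm
    unfold cidS
    rw [cid_basis β, h5]
    congr 2
    funext i
    rw [← Module.Basis.equivFun_apply, map_sum, Finset.sum_apply, Finset.sum_eq_single i]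
    · simp
    · intro j _ hj
      simp [hj]
    · simp
  · obtain ⟨γ, hγ⟩ := exists_stalkBasis he y hy
    obtain ⟨ω, hω⟩ := exists_stalkBasis h1 y hy
    have h3 : ∀ i, stalkLin φ y (γ i) = gerO y hy (f i) • ω 0 := by
      intro i
      rw [hγ, hω, ← ger_smul, ← hf]
      exact stalkLin_germ φ y hy (e i)
    have h4 : Submodule.span (X.presheaf.stalk y) {ω 0} = ⊤ := by
      rw [← ω.span_eq, Set.range_unique]
      rfl
    rw [LinearMap.range_eq_map, ← γ.span_eq, Submodule.map_span, ← Set.range_comp, ← h4, Ideal.span,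
      Submodule.span_smul_span]
    congr 1
    ext a
    rw [Set.mem_smul]
    constructor
    · rintro ⟨i, rfl⟩
      exact ⟨_, ⟨i, rfl⟩, _, rfl, (h3 i).symm⟩
    · rintro ⟨_, ⟨i, rfl⟩, _, rfl, rfl⟩
      exact ⟨i, h3 i⟩

theorem range_stalkLin {n : ℕ} {K : X.Modules} (hK : FlatMod.IsFinLocFreeOfRank n K)
    (φ : K ⟶ Coh.structureModule X) (x : X) :
    LinearMap.range (stalkLin φ x) = cidS (K308.Grp.dl K) (dsec φ) x •
      (⊤ : Submodule (X.presheaf.stalk x) ((Coh.structureModule X).presheaf.stalk x)) := by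
  obtain ⟨U, hx, f, hf⟩ := exists_coord hK φ x
  rw [(hf x hx).1, (hf x hx).2]

theorem cidS_specializes {n : ℕ} {K : X.Modules} (hK : FlatMod.IsFinLocFreeOfRank n K)
    (φ : K ⟶ Coh.structureModule X) {x t : X} (h : x ⤳ t) :
    cidS (K308.Grp.dl K) (dsec φ) x =
      (cidS (K308.Grp.dl K) (dsec φ) t).map (X.presheaf.stalkSpecializes h).hom := by
  obtain ⟨U, ht, f, hf⟩ := exists_coord hK φ t
  have hx : x ∈ U := h.mem_open U.2 ht
  rw [(hf t ht).1, (hf x hx).1, Ideal.map_span, ← Set.range_comp]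
  congr 2
  funext i
  exact (X.presheaf.germ_stalkSpecializes_apply ht h (f i)).symm

theorem smul_top_inj {x : X} {I J : Ideal (X.presheaf.stalk x)}
    (h : I • (⊤ : Submodule (X.presheaf.stalk x) ((Coh.structureModule X).presheaf.stalk x)) = J • ⊤) :
    I = J := by
  obtain ⟨ω, -⟩ := exists_stalkBasis (isLocBasis_one' X ⊤) x trivial
  have key : ∀ {I J : Ideal (X.presheaf.stalk x)},
      I • (⊤ : Submodule (X.presheaf.stalk x) ((Coh.structureModule X).presheaf.stalk x)) ≤ J • ⊤ → I ≤ J := by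
    intro I J hIJ a ha
    have h1 : a • ω 0 ∈ J • (⊤ : Submodule (X.presheaf.stalk x) ((Coh.structureModule X).presheaf.stalk x)) :=
      hIJ (Submodule.smul_mem_smul ha trivial)
    rw [mem_smul_top_iff ω] at h1
    have h2 := h1 (apply_mem (a • ω 0) (ω.coord 0))
    rwa [map_smul, Module.Basis.coord_apply, Module.Basis.repr_self, Finsupp.single_eq_same, smul_eq_mul,
      mul_one] at h2
  exact le_antisymm (key h.le) (key h.ge)

theorem cidS_eq_top_iff {n : ℕ} {K : X.Modules} (hK : FlatMod.IsFinLocFreeOfRank n K)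
    (φ : K ⟶ Coh.structureModule X) (x : X) :
    cidS (K308.Grp.dl K) (dsec φ) x = ⊤ ↔ Function.Surjective (stalkLin φ x) := by
  rw [← LinearMap.range_eq_top, range_stalkLin hK]
  constructor
  · intro h
    rw [h, Submodule.top_smul]
  · intro h
    apply smul_top_inj
    rw [h, Submodule.top_smul]

theorem exists_ideal {n : ℕ} {K : X.Modules} (hK : FlatMod.IsFinLocFreeOfRank n K)
    (φ : K ⟶ Coh.structureModule X) : ∃ I : X.IdealSheafData, ∀ x,
      Divis.CartierBasic.stalkIdeal I x = cidS (K308.Grp.dl K) (dsec φ) x := by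
  refine Ega4late.H532.GlueStalk.exists_idealSheaf_of_local _ fun x => ?_
  obtain ⟨U, hx, f, hf⟩ := exists_coord hK φ x
  refine ⟨U, hx, Ideal.span (Set.range f), fun y hy => ?_⟩
  rw [(hf y hy).1, Ideal.map_span, ← Set.range_comp]
  rfl

/-- The alternative for the coordinate ideals at closed points. -/
theorem cidS_eq_max {n : ℕ} {K : X.Modules} (hK : FlatMod.IsFinLocFreeOfRank n K)
    (φ : K ⟶ Coh.structureModule X) {t : X} (h : Function.Surjective (stalkLin φ t) ∨
      LinearMap.range (stalkLin φ t) = IsLocalRing.maximalIdeal (X.presheaf.stalk t) •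
          (⊤ : Submodule (X.presheaf.stalk t) ((Coh.structureModule X).presheaf.stalk t)))
    (ht : cidS (K308.Grp.dl K) (dsec φ) t ≠ ⊤) :
    cidS (K308.Grp.dl K) (dsec φ) t = IsLocalRing.maximalIdeal (X.presheaf.stalk t) := by
  rcases h with h | h
  · exact absurd ((cidS_eq_top_iff hK φ t).2 h) ht
  · apply smul_top_inj
    rw [← range_stalkLin hK, h]

/-- All zeros are closed points. -/
theorem isClosed_of_cidS_ne_top [CompactSpace X] {n : ℕ} {K : X.Modules}
    (hK : FlatMod.IsFinLocFreeOfRank n K) (φ : K ⟶ Coh.structureModule X)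
    (h : ∀ t : X, IsClosed ({t} : Set X) → Function.Surjective (stalkLin φ t) ∨
      LinearMap.range (stalkLin φ t) = IsLocalRing.maximalIdeal (X.presheaf.stalk t) •
          (⊤ : Submodule (X.presheaf.stalk t) ((Coh.structureModule X).presheaf.stalk t)))
    {x : X} (hx : cidS (K308.Grp.dl K) (dsec φ) x ≠ ⊤) : IsClosed ({x} : Set X) := by
  obtain ⟨t, ht, htc⟩ := (isClosed_closure (s := ({x} : Set X))).exists_closed_singleton
    ⟨x, subset_closure rfl⟩
  have hxt : x ⤳ t := specializes_iff_mem_closure.2 ht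
  have h1 := cidS_specializes hK φ hxt
  have h2 : cidS (K308.Grp.dl K) (dsec φ) t ≠ ⊤ := by
    intro h3
    rw [h3, Ideal.map_top] at h1
    exact hx h1
  by_cases hne : t = x
  · rwa [← hne]
  · exfalso
    obtain ⟨g, hg, hgu⟩ := S7336.exists_unit_at hxt hne
    apply hx
    rw [h1, cidS_eq_max hK φ (h t htc) h2]
    exact Ideal.eq_top_of_isUnit_mem _ (Ideal.mem_map_of_mem _ hg) hgu

/-- The cycle of a closed subscheme. -/
theorem exists_cycle {Z : Scheme.{u}} {δ : X → ℤ} (hX : Cyc.IsSetup X δ)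
    (j : Z ⟶ X) [IsClosedImmersion j] (k : ℤ) (hk : ∀ z, δ (j z) ≤ k) :
    ∃ c : AlgebraicCycle X ℤ, ⇑c = Cyc.subschemeFun δ k j := by
  have hZ := C1Fin.isSetup_of_isClosedImmersion j hX
  have := hZ.1
  obtain ⟨c, hc⟩ := C1Fin.exists_cycle_subschemeFun_id (k := k) hZ.2.2 hk
  refine ⟨AlgebraicCycle.map j (fun z => δ (j z)) δ c, ?_⟩
  funext x
  by_cases hx : x ∈ Set.range ⇑j
  · obtain ⟨z, rfl⟩ := hx
    rw [DivNat.map_apply_of_isPreimmersion j _ _ c z rfl, hc,
      C1Fin.subschemeFun_apply_of_injective j j.isClosedEmbedding.injective]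
  · rw [DivNat.map_apply_notMem_range j _ _ c x hx, C1Fin.subschemeFun_apply_notMem j _ _ x hx]

/-- The multiplicity of a closed subscheme at a point where its ideal is the maximal ideal. -/
theorem length_stalk_eq_one {Z : Scheme.{u}} (i : Z ⟶ X) [IsClosedImmersion i] (z : Z)
    (h : Divis.CartierBasic.stalkIdeal i.ker (i z) =
      IsLocalRing.maximalIdeal (X.presheaf.stalk (i z))) :
    Module.length (Z.presheaf.stalk z) (Z.presheaf.stalk z) = 1 := by
  have h2 : RingHom.ker (i.stalkMap z).hom = IsLocalRing.maximalIdeal (X.presheaf.stalk (i z)) := by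
    rw [Divis.CartierStalk.ker_stalkMap, h]
  rw [← FiberStalk.length_quotient_eq (i.stalkMap z).hom (i.stalkMap_surjective z) _ h2]
  have h3 : IsSimpleModule (X.presheaf.stalk (i z)) (X.presheaf.stalk (i z) ⧸
      IsLocalRing.maximalIdeal (X.presheaf.stalk (i z))) := by
    rw [isSimpleModule_iff_isCoatom]
    exact Ideal.isMaximal_def.1 (IsLocalRing.maximalIdeal.isMaximal _)
  exact Module.length_eq_one _ _

section deg

variable {k : Type u} [Field k] [IsAlgClosed k]

omit [IsAlgClosed k] in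
/-- A cycle without components of dimension zero has degree zero. -/
theorem deg_of_mem_ne (p : X ⟶ Spec (CommRingCat.of k)) [QuasiCompact p] {δ : X → ℤ} {l : ℤ}
    (hl : l ≠ 0) {α : AlgebraicCycle X ℤ} (hα : α ∈ Cyc.Zk X δ l) : ChowOps.deg p δ α = 0 := by
  change ∑ᶠ z ∈ p ⁻¹' {IsLocalRing.closedPoint k},
      α z * (AlgebraicCycle.mapCoeff p δ (fun _ => (0 : ℤ)) z : ℤ) = 0
  apply finsum_mem_eq_zero_of_forall_eq_zero
  intro z _
  by_cases hz : δ z = 0
  · rw [hα z (by rw [hz]; exact Ne.symm hl), zero_mul]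
  · unfold AlgebraicCycle.mapCoeff
    rw [if_neg hz]
    simp

/-- The degree of a reduced zero-cycle is the number of points. -/
theorem deg_indicator (p : X ⟶ Spec (CommRingCat.of k)) [QuasiCompact p]
    [LocallyOfFiniteType p] {δ : X → ℤ} (hδ : Cyc.DeltaCompat p δ (fun _ => 0))
    {S : Set X} (hS : ∀ x ∈ S, IsClosed ({x} : Set X)) {α : AlgebraicCycle X ℤ}
    (h1 : ∀ x ∈ S, α x = 1) (h0 : ∀ x, x ∉ S → α x = 0) :
    S.Finite ∧ ChowOps.deg p δ α = S.ncard := by
  have hsub : Subsingleton ↥(Spec (CommRingCat.of k)) :=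
    inferInstanceAs (Subsingleton (PrimeSpectrum k))
  have hX : CompactSpace X := QuasiCompact.compactSpace_of_compactSpace p
  have hfin : (Function.support α).Finite := by
    have := α.locallyFiniteSupport.finite_inter_support_of_isCompact (isCompact_univ (X := X))
    rwa [Set.univ_inter] at this
  have hSfin : S.Finite := hfin.subset fun x hx => by
    rw [Function.mem_support, h1 x hx]
    exact one_ne_zero
  refine ⟨hSfin, ?_⟩
  change ∑ᶠ z ∈ p ⁻¹' {IsLocalRing.closedPoint k},
      α z * (AlgebraicCycle.mapCoeff p δ (fun _ => (0 : ℤ)) z : ℤ) = _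
  have h3 : p ⁻¹' {IsLocalRing.closedPoint k} = Set.univ := by
    ext x
    simp only [Set.mem_preimage, Set.mem_univ, iff_true]
    exact Subsingleton.elim _ _
  rw [h3, finsum_mem_univ, finsum_eq_sum_of_support_subset (s := hSfin.toFinset)]
  · rw [Finset.sum_congr rfl (g := fun _ => (1 : ℤ)), Finset.sum_const, nsmul_eq_mul, mul_one,
      Set.ncard_eq_toFinset_card S hSfin]
    intro x hx
    have hx' : x ∈ S := by simpa using hx
    have h5 := K309.ZeroDeg.delta_of_isClosed p hδ (hS x hx')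
    unfold AlgebraicCycle.mapCoeff
    rw [h1 x hx', if_pos h5, K309.ZeroDeg.residueDegree_eq_one p x (hS x hx'), Nat.cast_one, mul_one]
  · intro x hx
    rw [Function.mem_support] at hx
    rw [Set.Finite.coe_toFinset]
    by_contra hcon
    exact hx (by rw [h0 x hcon, zero_mul])

end deg

/-- The total Chern class in terms of a given rank. -/
theorem totc_eq {k : Type u} [Field k] {T : Over (Spec (CommRingCat.of k))} [LocallyOfFiniteType T.hom]
    [Nonempty T.left] {r : ℕ} {E : T.left.Modules} (hE : FlatMod.IsFinLocFreeOfRank r E) :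
    K553.Sub.totc E = ∑ j ∈ Finset.range (r + 1), K307.chE (K553.Sub.dlt_setup T) hE j := by
  have key : ∀ (r' : ℕ) (h' : FlatMod.IsFinLocFreeOfRank r' E),
      ∑ j ∈ Finset.range (r' + 1), K307.chE (K553.Sub.dlt_setup T) h' j =
        ∑ j ∈ Finset.range (r + 1), K307.chE (K553.Sub.dlt_setup T) hE j := by
    intro r' h'
    obtain rfl : r' = r := by
      obtain ⟨x⟩ := ‹Nonempty T.left›
      obtain ⟨β⟩ := exists_basis h' x
      obtain ⟨γ⟩ := exists_basis hE x
      have h1 := Module.finrank_eq_card_basis β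
      have h2 := Module.finrank_eq_card_basis γ
      rw [Fintype.card_fin] at h1 h2
      omega
    rfl
  unfold K553.Sub.totc
  rw [dif_pos ⟨r, hE⟩]
  exact key _ _

section main

variable {k : Type u} [Field k] [IsAlgClosed k]

omit [IsAlgClosed k] in
theorem degT_eq (T : Over (Spec (CommRingCat.of k))) [IsProper T.hom] (a : K553.Sub.GT T) :
    K553.Sub.degT T a = K309.ZeroDeg.degH T.hom (K553.Sub.dlt_compat T) a := by
  conv_rhs => rw [← (K308.Grp.cl_surjective (K553.Sub.dlt T) a).choose_spec]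
  rfl

omit [IsAlgClosed k] in
/-- The operators `c_j` lower the dimension by `j`. -/
theorem degH_chE (T : Over (Spec (CommRingCat.of k))) [IsProper T.hom] {r : ℕ} {E : T.left.Modules}
    (hE : FlatMod.IsFinLocFreeOfRank r E) {n : ℤ} (x : ChowOps.CH T.left (K553.Sub.dlt T) n) (j : ℕ)
    (hj : n - j ≠ 0) : K309.ZeroDeg.degH T.hom (K553.Sub.dlt_compat T)
      (K307.chE (K553.Sub.dlt_setup T) hE j (K930.Homog.inc (K553.Sub.dlt T) n x)) = 0 := by
  obtain ⟨B, rfl⟩ := K307.Bun.exists_bun (K553.Sub.dlt_setup T) E hE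
  rw [← B.ch_eq hE ⟨Iso.refl _⟩, ← K930.Homog.hom_ch, K930.Homog.hom_apply]
  obtain ⟨α, hα, h⟩ := Bivar.exists_rep (K307.Gys.gr (K553.Sub.dlt T) (n - j)
    (B.ch j (K930.Homog.inc (K553.Sub.dlt T) n x)))
  rw [← h, K930.Homog.inc_cl, K309.ZeroDeg.degH_cl]
  exact deg_of_mem_ne _ hj hα

end main

end K420.SubZero

namespace K553.Sub

open Groth.Agent Groth.Agent.CycB K420.SubZero K307.Cid

variable {k : Type u} [Field k] [IsAlgClosed k]

theorem degT_totc_eq_ncard (T : Over (Spec (CommRingCat.of k))) [IsProper T.hom] [IsIntegral T.left] [Smooth T.hom]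
    (n : ℕ) (hn : topologicalKrullDim T.left = n) (K : T.left.Modules) (hK : FlatMod.IsFinLocFreeOfRank n K)
    (φ : K ⟶ Coh.structureModule T.left)
    (h : ∀ t : T.left, IsClosed ({t} : Set T.left) →
      Function.Surjective (Groth.Agent.CycB.StalkExact.stalkLin φ t) ∨
      LinearMap.range (Groth.Agent.CycB.StalkExact.stalkLin φ t) =
        IsLocalRing.maximalIdeal (T.left.presheaf.stalk t) •
          (⊤ : Submodule (T.left.presheaf.stalk t) ((Coh.structureModule T.left).presheaf.stalk t))) :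
    {t : T.left | IsClosed ({t} : Set T.left) ∧
      ¬ Function.Surjective (Groth.Agent.CycB.StalkExact.stalkLin φ t)}.Finite ∧
    degT T (totc (K308.Grp.dl K) (fund T)) = {t : T.left | IsClosed ({t} : Set T.left) ∧
      ¬ Function.Surjective (Groth.Agent.CycB.StalkExact.stalkLin φ t)}.ncard := by
  set S : Set T.left := {t : T.left | IsClosed ({t} : Set T.left) ∧
      ¬ Function.Surjective (Groth.Agent.CycB.StalkExact.stalkLin φ t)} with hS
  have hcomp : CompactSpace T.left := QuasiCompact.compactSpace_of_compactSpace T.hom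
  have hX := dlt_setup T
  have hδ := dlt_compat T
  have hE : FlatMod.IsFinLocFreeOfRank n (K308.Grp.dl K) :=
    Groth.Agent.Krr.H463.DualLam.isFinLocFreeOfRank_homSheaf hK
  -- the zeros
  have hSiff : ∀ x : T.left, x ∈ S ↔ cidS (K308.Grp.dl K) (dsec φ) x ≠ ⊤ := by
    intro x
    rw [Ne, cidS_eq_top_iff hK]
    refine ⟨fun hx => hx.2, fun hx => ⟨?_, hx⟩⟩
    exact isClosed_of_cidS_ne_top hK φ h (by rwa [Ne, cidS_eq_top_iff hK])
  have hmax : ∀ x ∈ S, cidS (K308.Grp.dl K) (dsec φ) x =
      IsLocalRing.maximalIdeal (T.left.presheaf.stalk x) := fun x hx =>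
    cidS_eq_max hK φ (h x hx.1) ((hSiff x).1 hx)
  have hδ0 : ∀ x ∈ S, dlt T x = 0 := fun x hx => K309.ZeroDeg.delta_of_isClosed T.hom hδ hx.1
  -- the dimension function
  have hη : dlt T (genericPoint T.left) = n :=
    K711.DeltaGen.delta_generic T.hom hδ (fun x => genericPoint_specializes x) hn
  have hdim : ∀ x, dlt T x ≤ n := by
    intro x
    by_cases hx : x = genericPoint T.left
    · rw [hx, hη]
    · rw [← hη]
      exact (hX.2.2 _ _ (genericPoint_specializes x) (Ne.symm hx)).1.le
  -- the zero scheme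
  obtain ⟨I, hI⟩ := exists_ideal hK φ
  have hZD : K307.TopC.ZD (dlt T) n n (K308.Grp.dl K) (dsec φ) I.subschemeι := by
    refine ⟨hdim, fun x => ?_, fun x hx => ?_, fun x hx _ => ?_⟩
    · rw [Scheme.IdealSheafData.ker_subschemeι, hI]
    · rw [hδ0 x ((hSiff x).2 hx), sub_self]
    · have hxS := (hSiff x).2 hx
      obtain ⟨U, hxU, f, hf⟩ := exists_coord hK φ x
      refine ⟨_, ?_, (hf x hxU).1⟩
      let : T.left.Over (Spec (CommRingCat.of k)) := ⟨T.hom⟩
      have : Smooth (T.left ↘ (Spec (CommRingCat.of k))) := ‹Smooth T.hom›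
      have := S1535.result k T.left x
      refine S0559.result _ n ?_ _ ?_
      · rw [K629.NsCurve.ringKrullDim_stalk_eq k T.hom x hxS.1, hn]
      · rw [← (hf x hxU).1, hmax x hxS]
  -- cycles
  obtain ⟨ζ, hζ⟩ := exists_cycle hX I.subschemeι (n - n) (fun z => by
    have h1 : I.subschemeι z ∈ S := by
      rw [hSiff, ← hZD.ideal]
      exact (K307.TopC.mem_range_iff I.subschemeι _).1 ⟨z, rfl⟩
    rw [hδ0 _ h1, sub_self])
  have hα : ⇑(K306.PtCyc.ptCyc (genericPoint T.left)) = Cyc.subschemeFun (dlt T) n (𝟙 T.left) := by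
    funext x
    rw [C1Fin.subschemeFun_id]
    by_cases hx : x = genericPoint T.left
    · subst hx
      rw [K306.PtCyc.ptCyc_self, if_pos hη, K306.PtCyc.length_stalk_generic]
      rfl
    · rw [K306.PtCyc.ptCyc_of_ne hx, if_neg]
      intro h1
      have h2 := (hX.2.2 _ _ (genericPoint_specializes x) (Ne.symm hx)).1
      omega
  have hmain := K307.TopC.main n hX hE (dsec φ) I.subschemeι hZD hα hζ
  have hζ1 : ∀ x ∈ S, ζ x = 1 := by
    intro x hx
    obtain ⟨z, rfl⟩ : x ∈ Set.range ⇑I.subschemeι := by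
      rw [K307.TopC.mem_range_iff, hZD.ideal]
      exact (hSiff x).1 hx
    rw [hζ, C1Fin.subschemeFun_apply_of_injective _ I.subschemeι.isClosedEmbedding.injective,
      C1Fin.subschemeFun_id, if_pos (by rw [hδ0 _ hx, sub_self]),
      length_stalk_eq_one I.subschemeι z (by rw [hZD.ideal, hmax _ hx])]
    rfl
  have hζ0 : ∀ x, x ∉ S → ζ x = 0 := by
    intro x hx
    rw [hζ]
    refine C1Fin.subschemeFun_apply_notMem _ _ _ x fun hx' => hx ?_
    rw [K307.TopC.mem_range_iff, hZD.ideal] at hx'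
    exact (hSiff x).2 hx'
  obtain ⟨hfin, hdeg⟩ := deg_indicator T.hom hδ (fun x hx => hx.1) hζ1 hζ0
  refine ⟨hfin, ?_⟩
  have hmem : K306.PtCyc.ptCyc (genericPoint T.left) ∈ Cyc.Zk T.left (dlt T) n :=
    K306.PtCyc.ptCyc_mem hη
  have hsum : (∑ j ∈ Finset.range (n + 1), K307.chE (dlt_setup T) hE j) (fund T) =
      ∑ j ∈ Finset.range (n + 1), K307.chE (dlt_setup T) hE j (fund T) :=
    AddMonoidHom.finsetSum_apply _ _ _
  rw [← hdeg, degT_eq, totc_eq hE, hsum, map_sum, Finset.sum_range_succ,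
    Finset.sum_eq_zero, zero_add]
  · rw [← K309.ZeroDeg.degH_cl T.hom hδ, ← hmain]
    rfl
  · intro j hj
    rw [Finset.mem_range] at hj
    exact degH_chE T hE (ChowOps.cl _ hmem) j (by omega)

end K553.Sub
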